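import Cfsg.Agent.Char.Virtual

/-!
A sum of `N` nonzero characters of norm at most `N` consists of distinct irreducible characters.
-/

namespace Cfsg.Agent.KnownChar

open Cfsg Cfsg.Agent.Char

variable {G : Type*} [Group G] [Fintype G]

theorem classInner_sum_right' {ι : Type*} (s : Finset ι) (a : ι → G → ℂ) (c : G → ℂ) :
    classInner c (∑ i ∈ s, a i) = ∑ i ∈ s, classInner c (a i) := by
  rw [← classInner_conj, classInner_sum_left, map_sum]
  exact Finset.sum_congr rfl fun i _ => classInner_conj _ _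

theorem classInner_char_nat {a b : G → ℂ} (ha : IsCharacter G a) (hb : IsCharacter G b) :
    ∃ n : ℕ, classInner a b = n := by
  classical
  obtain ⟨m, hm, -⟩ := isCharacter_exists_coeff hb
  choose c hc using isCharacter_classInner_nat ha
  refine ⟨∑ ψ : IrrCharacter G, m ψ * c ψ, ?_⟩
  rw [hm, classInner_sum_right', Nat.cast_sum]
  refine Finset.sum_congr rfl fun ψ _ => ?_
  rw [← Nat.cast_smul_eq_nsmul ℂ, ← classInner_conj, classInner_smul_left, map_mul, map_natCast,
    classInner_conj, hc, Nat.cast_mul]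

theorem classInner_self_pos {a : G → ℂ} (ha : IsCharacter G a) (h0 : a ≠ 0) :
    ∃ n : ℕ, 0 < n ∧ classInner a a = n := by
  obtain ⟨n, hn⟩ := classInner_char_nat ha ha
  refine ⟨n, Nat.pos_of_ne_zero fun hn0 => ?_, hn⟩
  subst hn0
  obtain ⟨ψ, k, hk, hψ⟩ := exists_irr_constituent ha h0
  apply h0
  funext g
  rw [Nat.cast_zero, classInner] at hn
  have hcard : (Nat.card G : ℂ)⁻¹ ≠ 0 := inv_ne_zero (Nat.cast_ne_zero.2 Nat.card_pos.ne')
  have h1 := (mul_eq_zero.1 hn).resolve_left hcard
  simp only [Complex.mul_conj] at h1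
  have h2 : ∑ x : G, Complex.normSq (a x) = 0 := by exact_mod_cast h1
  exact Complex.normSq_eq_zero.1
    ((Finset.sum_eq_zero_iff_of_nonneg fun x _ => Complex.normSq_nonneg _).1 h2 g (Finset.mem_univ g))

theorem split_irr {ι : Type*} [Fintype ι] (χ : ι → G → ℂ) (hχ : ∀ i, IsCharacter G (χ i))
    (h0 : ∀ i, χ i ≠ 0) (N : ℕ)
    (hnorm : classInner (∑ i, χ i) (∑ i, χ i) = N) (hN : N ≤ Fintype.card ι) :
    (∀ i, IsIrrCharacter G (χ i)) ∧ Function.Injective χ := by
  classical
  choose c hc using fun i j => classInner_char_nat (hχ i) (hχ j)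
  have hd : ∀ i, 1 ≤ c i i := fun i => by
    obtain ⟨n, hn, he⟩ := classInner_self_pos (hχ i) (h0 i)
    rw [hc] at he
    have : c i i = n := by exact_mod_cast he
    omega
  rw [classInner_sum_left] at hnorm
  simp only [classInner_sum_right', hc] at hnorm
  have hsum : ∑ i, ∑ j, c i j = N := by exact_mod_cast hnorm
  have hrow : ∀ i, c i i + ∑ j ∈ Finset.univ.erase i, c i j = ∑ j, c i j := fun i =>
    Finset.add_sum_erase _ _ (Finset.mem_univ i)
  have hge : ∀ i ∈ (Finset.univ : Finset ι), 1 ≤ ∑ j, c i j := fun i _ => by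
    have := hrow i; have := hd i; omega
  have hall : ∀ i, ∑ j, c i j = 1 := by
    have h1 : ∑ _i : ι, 1 = ∑ i, ∑ j, c i j := by
      refine le_antisymm (Finset.sum_le_sum hge) ?_
      rw [hsum]; simpa using hN
    exact fun i => ((Finset.sum_eq_sum_iff_of_le hge).1 h1 i (Finset.mem_univ i)).symm
  have hdiag : ∀ i, c i i = 1 := fun i => by
    have := hrow i; have := hd i; have := hall i; omega
  have hoff : ∀ i j, j ≠ i → c i j = 0 := fun i j hij => by
    have h1 : ∑ j ∈ Finset.univ.erase i, c i j = 0 := by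
      have := hrow i; have := hdiag i; have := hall i; omega
    exact Finset.sum_eq_zero_iff.1 h1 j (Finset.mem_erase.2 ⟨hij, Finset.mem_univ j⟩)
  refine ⟨fun i => isIrrCharacter_iff_classInner.2 ⟨hχ i, by rw [hc, hdiag, Nat.cast_one]⟩, ?_⟩
  intro i j hij
  by_contra hne
  have h1 : classInner (χ i) (χ j) = classInner (χ i) (χ i) := by rw [hij]
  rw [hc, hc, hdiag, hoff i j (Ne.symm hne)] at h1
  simp at h1

end Cfsg.Agent.KnownChar
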