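import Cfsg.Agent.KnownChar.Split
import Cfsg.Agent.Char.PermChar
import Cfsg.Agent.Char.Linear
import Cfsg.Agent.CharInd.Induced

/-!
The Weil characters of `SL_n(q)`, `n ≥ 3`.
-/

namespace Cfsg.Agent.KnownChar

open Cfsg Matrix Cfsg.Agent.Char

variable {F : Type*} [Field F] {n : ℕ}

/-- move one basis vector to `b` fixing another one -/
theorem exists_sl_move (i₀ l z : Fin n) (hl : l ≠ i₀) (hlz : l ≠ z) (hz : z ≠ i₀) (b : Fin n → F)
    (j : Fin n) (hj : b j ≠ 0) (hjz : j ≠ z) :
    ∃ h : SpecialLinearGroup (Fin n) F,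
      h.1 *ᵥ Pi.single i₀ 1 = b ∧ h.1 *ᵥ Pi.single z 1 = Pi.single z 1 := by
  classical
  set P : Matrix (Fin n) (Fin n) F := (Equiv.swap i₀ j).permMatrix F
  set g : Matrix (Fin n) (Fin n) F := (1 : Matrix (Fin n) (Fin n) F).updateCol j b with hg_def
  have hdet : (g * P).det ≠ 0 := by
    have hg : g.det = b j := by
      rw [hg_def, ← Matrix.cramer_apply, Matrix.cramer_one]
      rfl
    rw [Matrix.det_mul, Matrix.det_permutation, hg]
    exact mul_ne_zero hj (IsUnit.ne_zero
      ((Equiv.Perm.sign (Equiv.swap i₀ j)).isUnit.map (Int.castRingHom F)))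
  set D : Matrix (Fin n) (Fin n) F := diagonal (Function.update (fun _ => (1 : F)) l ((g * P).det)⁻¹)
  have hperm : ∀ a : Fin n, Pi.single a (1 : F) ∘ ⇑(Equiv.swap i₀ j) =
      Pi.single (Equiv.swap i₀ j a) 1 := by
    intro a
    ext i
    by_cases hi : i = Equiv.swap i₀ j a
    · subst hi; simp
    · have : Equiv.swap i₀ j i ≠ a := fun h => hi (by rw [← h, Equiv.swap_apply_self])
      simp [hi, this]
  refine ⟨⟨g * P * D, ?_⟩, ?_, ?_⟩
  · rw [Matrix.det_mul (g * P) D, Matrix.det_diagonal, Finset.prod_update_of_mem (Finset.mem_univ l),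
      Finset.prod_const_one, mul_one, mul_inv_cancel₀ hdet]
  · change (g * P * D) *ᵥ Pi.single i₀ 1 = b
    rw [← Matrix.mulVec_mulVec, ← Matrix.mulVec_mulVec, Matrix.diagonal_mulVec_single,
      Function.update_of_ne hl.symm, one_mul, Matrix.permMatrix_mulVec, hperm,
      Equiv.swap_apply_left]
    ext i
    simp [g]
  · change (g * P * D) *ᵥ Pi.single z 1 = Pi.single z 1
    rw [← Matrix.mulVec_mulVec, ← Matrix.mulVec_mulVec, Matrix.diagonal_mulVec_single,
      Function.update_of_ne hlz.symm, one_mul, Matrix.permMatrix_mulVec, hperm,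
      Equiv.swap_apply_of_ne_of_ne hz hjz.symm]
    ext i
    simp [g, hjz.symm, Matrix.one_apply, Pi.single_apply, eq_comm]

theorem weil_decomposition [Fintype F] [DecidableEq F] (hn : 3 ≤ n) :
    ∃ χ : Fin (Fintype.card F - 1) → (Matrix.SpecialLinearGroup (Fin n) F → ℂ),
      (∀ i, Cfsg.IsIrrCharacter (Matrix.SpecialLinearGroup (Fin n) F) (χ i)) ∧ Function.Injective χ ∧
      ∀ g : Matrix.SpecialLinearGroup (Fin n) F,
        (Nat.card {v : Fin n → F // v ≠ 0 ∧ (g : Matrix (Fin n) (Fin n) F).mulVec v = v} : ℂ) =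
          1 + ∑ i, χ i g := by
  classical
  let G := SpecialLinearGroup (Fin n) F
  let i0 : Fin n := ⟨0, by omega⟩
  let i1 : Fin n := ⟨1, by omega⟩
  let i2 : Fin n := ⟨2, by omega⟩
  have h01 : i0 ≠ i1 := by simp [i0, i1, Fin.ext_iff]
  have h02 : i0 ≠ i2 := by simp [i0, i2, Fin.ext_iff]
  have h12 : i1 ≠ i2 := by simp [i1, i2, Fin.ext_iff]
  have hmul : ∀ (a b : G) (v : Fin n → F), (a * b).1 *ᵥ v = a.1 *ᵥ (b.1 *ᵥ v) := fun a b v =>
    (Matrix.mulVec_mulVec v a.1 b.1).symm
  have hone : ∀ v : Fin n → F, (1 : G).1 *ᵥ v = v := fun v => Matrix.one_mulVec v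
  have hinv : ∀ (a : G) (v : Fin n → F), (a⁻¹).1 *ᵥ (a.1 *ᵥ v) = v := fun a v => by
    rw [← hmul, inv_mul_cancel, hone]
  have hne : ∀ (a : G) (v : Fin n → F), v ≠ 0 → a.1 *ᵥ v ≠ 0 := fun a v hv h => hv (by
    rw [← hinv a v, h, Matrix.mulVec_zero])
  let X := {v : Fin n → F // v ≠ 0}
  letI : MulAction G X :=
    { smul := fun a v => ⟨a.1 *ᵥ v.1, hne a v.1 v.2⟩
      one_smul := fun v => Subtype.ext (hone v.1)
      mul_smul := fun a b v => Subtype.ext (hmul a b v.1) }
  have hsmul : ∀ (a : G) (v : X), (a • v).1 = a.1 *ᵥ v.1 := fun _ _ => rfl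
  let e : X := ⟨Pi.single i0 1, by simp⟩
  let f : X := ⟨Pi.single i1 1, by simp⟩
  have hmove : ∀ v : X, ∃ a : G, a • e = v := by
    intro v
    obtain ⟨j, hj⟩ := Function.ne_iff.1 v.2
    rw [Pi.zero_apply] at hj
    rcases eq_or_ne j i1 with rfl | hj1
    · obtain ⟨a, ha, -⟩ := exists_sl_move i0 i1 i2 h01.symm h12 h02.symm v.1 i1 hj h12
      exact ⟨a, Subtype.ext ha⟩
    · obtain ⟨a, ha, -⟩ := exists_sl_move i0 i2 i1 h02.symm h12.symm h01.symm v.1 j hj hj1
      exact ⟨a, Subtype.ext ha⟩
  -- the stabilizer of the line of `e`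
  let P : Subgroup G :=
    { carrier := {a | ∃ c : Fˣ, a.1 *ᵥ e.1 = (c : F) • e.1}
      one_mem' := ⟨1, by rw [hone, Units.val_one, one_smul]⟩
      mul_mem' := by
        rintro a b ⟨c, hc⟩ ⟨d, hd⟩
        exact ⟨d * c, by rw [hmul, hd, Matrix.mulVec_smul, hc, smul_smul, Units.val_mul]⟩
      inv_mem' := by
        rintro a ⟨c, hc⟩
        refine ⟨c⁻¹, ?_⟩
        have := congrArg (fun v => (a⁻¹).1 *ᵥ v) hc
        simp only [hinv, Matrix.mulVec_smul] at this
        conv_rhs => rw [this, smul_smul, ← Units.val_mul, inv_mul_cancel, Units.val_one, one_smul] }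
  have hee : e.1 i0 = 1 := by simp [e]
  let ℓ0 : P → Fˣ := fun a => a.2.choose
  have hℓ : ∀ a : P, a.1.1 *ᵥ e.1 = (ℓ0 a : F) • e.1 := fun a => a.2.choose_spec
  have huniq : ∀ c d : F, c • e.1 = d • e.1 → c = d := fun c d h => by
    have := congrFun h i0
    simpa [hee] using this
  let ℓ : P →* Fˣ := MonoidHom.mk' ℓ0 fun a b => Units.ext (huniq _ _ (by
    rw [← hℓ, Subgroup.coe_mul, hmul, hℓ, Matrix.mulVec_smul, hℓ, smul_smul, Units.val_mul,
      mul_comm]))
  let θ : (Fˣ →* ℂˣ) → G → ℂ := fun lam => indFun P (fun a => ((lam.comp ℓ) a : ℂ))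
  have hθchar : ∀ lam, IsCharacter G (θ lam) := fun lam =>
    CharInd.isCharacter_indFun P (isCharacter_of_irr (isIrrCharacter_monoidHom (lam.comp ℓ)))
  have : Fintype (Fˣ →* ℂˣ) := Fintype.ofFinite _
  have hcardhom : Fintype.card (Fˣ →* ℂˣ) = Fintype.card F - 1 := by
    rw [← Nat.card_eq_fintype_card, CommGroup.card_monoidHom_of_hasEnoughRootsOfUnity Fˣ ℂ,
      Nat.card_eq_fintype_card, Fintype.card_units]
  have hdual : ∀ c : Fˣ, ∑ lam : Fˣ →* ℂˣ, (lam c : ℂ) =
      if c = 1 then ((Fintype.card F - 1 : ℕ) : ℂ) else 0 := by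
    intro c
    split_ifs with hc
    · subst hc
      simp [hcardhom]
    · obtain ⟨μ, hμ⟩ := CommGroup.exists_apply_ne_one_of_hasEnoughRootsOfUnity Fˣ ℂ hc
      have h1 : ∑ lam : Fˣ →* ℂˣ, (lam c : ℂ) = (μ c : ℂ) * ∑ lam : Fˣ →* ℂˣ, (lam c : ℂ) := by
        rw [Finset.mul_sum]
        refine (Fintype.sum_equiv (Equiv.mulLeft μ) _ _ fun lam => ?_).symm
        simp
      have h2 : ((μ c : ℂ) - 1) * ∑ lam : Fˣ →* ℂˣ, (lam c : ℂ) = 0 := by linear_combination -h1
      exact (mul_eq_zero.1 h2).resolve_left (sub_ne_zero.2 fun h => hμ (Units.ext h))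
  let N := (Finset.univ.filter fun x : G => x • e = e).card
  have hfib : ∀ v : X, (Finset.univ.filter fun x : G => x • e = v).card = N := by
    intro v
    obtain ⟨a, ha⟩ := hmove v
    refine Finset.card_bij' (fun x _ => a⁻¹ * x) (fun x _ => a * x) ?_ ?_ ?_ ?_
    · intro x hx
      rw [Finset.mem_filter] at hx ⊢
      exact ⟨Finset.mem_univ _, by rw [mul_smul, hx.2, ← ha, inv_smul_smul]⟩
    · intro x hx
      rw [Finset.mem_filter] at hx ⊢
      exact ⟨Finset.mem_univ _, by rw [mul_smul, hx.2, ha]⟩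
    · intro x _; simp
    · intro x _; simp
  have hN0 : (N : ℂ) ≠ 0 := Nat.cast_ne_zero.2
    (Finset.card_ne_zero.2 ⟨1, Finset.mem_filter.2 ⟨Finset.mem_univ _, one_smul _ _⟩⟩)
  have hcount : ∀ Q : X → Prop,
      (Finset.univ.filter fun x : G => Q (x • e)).card = N * (Finset.univ.filter Q).card := by
    intro Q
    rw [Finset.card_eq_sum_card_fiberwise (f := fun x : G => x • e) (t := Finset.univ.filter Q)
      (fun x hx => by simp only [Finset.coe_filter, Finset.mem_univ, true_and] at hx ⊢; exact hx)]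
    rw [Finset.sum_congr rfl (fun v hv => ?_), Finset.sum_const, smul_eq_mul, mul_comm]
    rw [Finset.filter_filter, ← hfib v]
    congr 1
    refine Finset.filter_congr fun x _ => ⟨fun h => h.2, fun h => ⟨?_, h⟩⟩
    rw [h]
    exact (Finset.mem_filter.1 hv).2
  have hPcard : Nat.card P = N * (Fintype.card F - 1) := by
    rw [Nat.card_eq_fintype_card, Fintype.card_subtype]
    have h1 : (Finset.univ.filter fun x : G => x ∈ P) =
        Finset.univ.filter fun x : G => (fun v : X => ∃ c : Fˣ, v.1 = (c : F) • e.1) (x • e) := by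
      refine Finset.filter_congr fun x _ => Iff.rfl
    rw [h1]
    trans N * (Finset.univ.filter fun v : X => ∃ c : Fˣ, v.1 = (c : F) • e.1).card
    · convert hcount fun v : X => ∃ c : Fˣ, v.1 = (c : F) • e.1
    rw [← Fintype.card_units (α := F), ← Finset.card_univ (α := Fˣ)]
    congr 1
    refine (Finset.card_bij (s := (Finset.univ : Finset Fˣ)) (fun c _ => (⟨(c : F) • e.1,
      smul_ne_zero c.ne_zero e.2⟩ : X)) ?_ ?_ ?_).symm
    · intro c _; exact Finset.mem_filter.2 ⟨Finset.mem_univ _, c, rfl⟩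
    · intro c _ d _ h; exact Units.ext (huniq _ _ (congrArg Subtype.val h))
    · intro v hv
      obtain ⟨c, hc⟩ := (Finset.mem_filter.1 hv).2
      exact ⟨c, Finset.mem_univ _, Subtype.ext hc.symm⟩
  have hpoint : ∀ y : G, ∑ lam : Fˣ →* ℂˣ,
      extendByZero P (fun a => ((lam.comp ℓ) a : ℂ)) y =
        if y • e = e then ((Fintype.card F - 1 : ℕ) : ℂ) else 0 := by
    intro y
    by_cases hy : y ∈ P
    · simp only [CharInd.extendByZero_mem P _ hy, MonoidHom.comp_apply]
      rw [hdual]
      refine if_congr ⟨fun h => Subtype.ext ?_, fun h => Units.ext (huniq _ _ ?_)⟩ rfl rfl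
      · rw [hsmul]
        have := hℓ ⟨y, hy⟩
        change ℓ0 ⟨y, hy⟩ = 1 at h
        rwa [h, Units.val_one, one_smul] at this
      · rw [Units.val_one, one_smul]
        exact (hℓ ⟨y, hy⟩).symm.trans (congrArg Subtype.val h)
    · simp only [CharInd.extendByZero_notMem P _ hy, Finset.sum_const_zero]
      rw [if_neg]
      intro h
      exact hy ⟨1, by rw [Units.val_one, one_smul]; exact congrArg Subtype.val h⟩
  have hperm : permChar X = ∑ lam : Fˣ →* ℂˣ, θ lam := by
    funext g
    rw [Finset.sum_apply]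
    simp only [θ, indFun]
    rw [← Finset.mul_sum, Finset.sum_comm]
    simp only [hpoint]
    rw [Finset.sum_ite, Finset.sum_const_zero, add_zero, Finset.sum_const, nsmul_eq_mul]
    have h1 : (Finset.univ.filter fun x : G => (x⁻¹ * g * x) • e = e) =
        Finset.univ.filter fun x : G => (fun v : X => g • v = v) (x • e) := by
      refine Finset.filter_congr fun x _ => ?_
      rw [mul_smul, mul_smul, inv_smul_eq_iff]
    have h3 : (Finset.univ.filter fun x : G => (fun v : X => g • v = v) (x • e)).card =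
        N * (Finset.univ.filter fun v : X => g • v = v).card := by
      convert hcount fun v : X => g • v = v
    rw [h1, h3, hPcard]
    have h2 : permChar X g = ((Finset.univ.filter fun v : X => g • v = v).card : ℂ) := by
      simp only [permChar, Nat.card_eq_fintype_card]
      rw [← Fintype.card_subtype]
      exact_mod_cast Fintype.card_congr (Equiv.refl _)
    have hq : ((Fintype.card F - 1 : ℕ) : ℂ) ≠ 0 :=
      Nat.cast_ne_zero.2 (by have := Fintype.one_lt_card (α := F); omega)
    rw [h2, Nat.cast_mul, Nat.cast_mul]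
    field_simp
  have hone' : IsIrrCharacter G (fun _ => (1 : ℂ)) := isIrrCharacter_const_one
  let τ : G → ℂ := θ 1 - fun _ => 1
  have hinner1 : classInner (θ 1) (fun _ => (1 : ℂ)) = 1 := by
    rw [show θ 1 = indFun P (fun _ => (1 : ℂ)) by
      simp only [θ]; congr 1]
    rw [CharInd.classInner_indFun_left P _ (isCharacter_isClassFunction (isCharacter_of_irr hone'))]
    exact classInner_irr_self (isIrrCharacter_const_one (G := P))
  have hτchar : IsCharacter G τ := by
    have := isCharacter_sub_constituent (hθchar 1) (ψ := ⟨_, hone'⟩) (n := 1)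
      one_pos (by rw [hinner1, Nat.cast_one])
    simpa [τ] using this
  have hθdeg : ∀ lam, θ lam 1 = (P.index : ℂ) := fun lam => by
    simp only [θ]
    rw [CharInd.indFun_one_apply]
    simp
  have hindex : P.index ≠ 1 := by
    rw [Ne, Subgroup.index_eq_one]
    intro htop
    obtain ⟨a, ha⟩ := hmove f
    obtain ⟨c, hc⟩ := (htop ▸ Subgroup.mem_top a : a ∈ P)
    have h1 : (a • e).1 i1 = ((c : F) • e.1) i1 := congrFun hc i1
    rw [ha] at h1
    simp [e, f, h01.symm] at h1
  let χ' : Option (Fˣ →* ℂˣ) → G → ℂ := fun o =>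
    o.elim (fun _ => 1) fun lam => if lam = 1 then τ else θ lam
  have hsum : ∑ o, χ' o = permChar X := by
    rw [Fintype.sum_option, hperm, ← Finset.add_sum_erase _ _ (Finset.mem_univ (1 : Fˣ →* ℂˣ)),
      ← Finset.add_sum_erase _ θ (Finset.mem_univ (1 : Fˣ →* ℂˣ))]
    rw [← add_assoc]
    congr 1
    · simp [χ', τ]
    · refine Finset.sum_congr rfl fun lam hlam => ?_
      simp [χ', Finset.ne_of_mem_erase hlam]
  have horb : Nat.card (Quotient (MulAction.orbitRel G (X × X))) ≤ Fintype.card F := by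
    let r : Option Fˣ → X × X := fun o =>
      o.elim (e, f) fun c => (e, ⟨(c : F) • e.1, smul_ne_zero c.ne_zero e.2⟩)
    have hsurj : Function.Surjective fun o => Quotient.mk (MulAction.orbitRel G (X × X)) (r o) := by
      intro qq
      obtain ⟨⟨v, w⟩, rfl⟩ := Quotient.mk_surjective qq
      obtain ⟨a, ha⟩ := hmove v
      by_cases hdep : ∃ c : Fˣ, (a⁻¹ • w).1 = (c : F) • e.1
      · obtain ⟨c, hc⟩ := hdep
        refine ⟨some c, Quotient.sound ?_⟩
        change r (some c) ∈ MulAction.orbit G (v, w)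
        refine ⟨a⁻¹, Prod.ext ?_ (Subtype.ext hc)⟩
        change a⁻¹ • v = e
        rw [← ha, inv_smul_smul]
      · have hex : ∃ j, j ≠ i0 ∧ (a⁻¹ • w).1 j ≠ 0 := by
          by_contra! hall
          have h0 : (a⁻¹ • w).1 i0 ≠ 0 := by
            intro h0
            exact (a⁻¹ • w).2 (funext fun j => by
              rcases eq_or_ne j i0 with rfl | hj
              · exact h0
              · exact hall j hj)
          refine hdep ⟨Units.mk0 _ h0, funext fun j => ?_⟩
          rcases eq_or_ne j i0 with rfl | hj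
          · simp [hee]
          · simp [hall j hj, e, hj]
        obtain ⟨j, hj, hj'⟩ := hex
        obtain ⟨b, hb1, hb2⟩ :=
          exists_sl_move i1 i2 i0 h12.symm h02.symm h01 (a⁻¹ • w).1 j hj' hj
        refine ⟨none, Quotient.sound ?_⟩
        change r none ∈ MulAction.orbit G (v, w)
        refine ⟨b⁻¹ * a⁻¹, Prod.ext ?_ ?_⟩
        · change (b⁻¹ * a⁻¹) • v = e
          rw [mul_smul, ← ha, inv_smul_smul, inv_smul_eq_iff]
          exact Subtype.ext hb2.symm
        · change (b⁻¹ * a⁻¹) • w = f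
          rw [mul_smul, inv_smul_eq_iff]
          exact Subtype.ext hb1.symm
    refine (Nat.card_le_card_of_surjective _ hsurj).trans (le_of_eq ?_)
    rw [Nat.card_eq_fintype_card, Fintype.card_option, Fintype.card_units]
    have := Fintype.one_lt_card (α := F)
    omega
  obtain ⟨hirr, hinj⟩ := split_irr χ'
    (fun o => by
      cases o with
      | none => exact isCharacter_of_irr hone'
      | some lam =>
        simp only [χ', Option.elim_some]
        split_ifs
        exacts [hτchar, hθchar lam])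
    (fun o h => by
      have h1 := congrFun h 1
      cases o with
      | none => simp [χ'] at h1
      | some lam =>
        simp only [χ', Option.elim_some] at h1
        split_ifs at h1
        · simp only [τ, Pi.sub_apply, Pi.zero_apply, hθdeg, sub_eq_zero] at h1
          exact hindex (by exact_mod_cast h1)
        · rw [hθdeg, Pi.zero_apply] at h1
          exact Subgroup.index_ne_zero_of_finite (by exact_mod_cast h1))
    (Nat.card (Quotient (MulAction.orbitRel G (X × X))))
    (by rw [hsum, classInner_permChar_permChar])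
    (by rw [Fintype.card_option, hcardhom]; omega)
  let en : Fin (Fintype.card F - 1) ≃ (Fˣ →* ℂˣ) := (Fintype.equivFinOfCardEq hcardhom).symm
  refine ⟨fun i => χ' (some (en i)), fun i => hirr _,
    hinj.comp (Option.some_injective _ |>.comp en.injective), fun g => ?_⟩
  have h1 := congrFun hsum g
  rw [Finset.sum_apply, Fintype.sum_option] at h1
  rw [show (1 : ℂ) = χ' none g from rfl, en.sum_comp (fun lam => χ' (some lam) g), h1, permChar,
    Nat.cast_inj]
  exact Nat.card_congr
    { toFun := fun v => ⟨⟨v.1, v.2.1⟩, Subtype.ext v.2.2⟩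
      invFun := fun v => ⟨v.1.1, v.1.2, congrArg Subtype.val v.2⟩
      left_inv := fun _ => rfl
      right_inv := fun _ => rfl }

end Cfsg.Agent.KnownChar
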